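import Cfsg.Agent.H15.UB.Ru.D0

/-! Generated by tools/h15/ub/gk.py (kit tools/h0/tr). -/

set_option maxRecDepth 100000
set_option maxHeartbeats 0

namespace H15.UB.Ru
open H16 H0.TR
open H15.QS H15.UB
open scoped commutatorElement Pointwise

theorem zU_k : Nat.add (ltAll 14 [nat_lit 0]) (sumL (fun β => Nat.xor (H15.IC.Ru.c0ax_P 0 β) (apW H8.RU.st_P [nat_lit 0] β)) H15.Ru.B) = 0 := by decide +kernel
theorem Uz_k_0 : allZ (cmEnt H8.RU.st_P H15.IC.Ru.c0ax_P (nat_lit 14) H15.Ru.B (nat_lit 0)) (nat_lit 0) (nat_lit 14) = true := by decide +kernel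
theorem z1_k : 0 < 4060 ∧ ltAll 1 (List.replicate 1 0) = 0 ∧ ltAll 1 [] = 0 ∧ apW H15.IC.Ru.c0ax_P (List.replicate 1 0) 0 ≠ apW H15.IC.Ru.c0ax_P [] 0 := by decide +kernel
theorem cuth_lt : H16.allL (ltAll 7) cuth_W = true := by decide +kernel
theorem cuth_m_0_0 : allZ (matEnt (wdsP H15.Ru.P cuth_W) cuth_P (nat_lit 0)) (nat_lit 0) (nat_lit 3840) = true := by decide +kernel
theorem cuth_m_0_1 : allZ (matEnt (wdsP H15.Ru.P cuth_W) cuth_P (nat_lit 0)) (nat_lit 3840) (nat_lit 220) = true := by decide +kernel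
theorem cuth_m_1_0 : allZ (matEnt (wdsP H15.Ru.P cuth_W) cuth_P (nat_lit 1)) (nat_lit 0) (nat_lit 4060) = true := by decide +kernel
theorem cuth_m_2_0 : allZ (matEnt (wdsP H15.Ru.P cuth_W) cuth_P (nat_lit 2)) (nat_lit 0) (nat_lit 4060) = true := by decide +kernel
theorem cuth_m_3_0 : allZ (matEnt (wdsP H15.Ru.P cuth_W) cuth_P (nat_lit 3)) (nat_lit 0) (nat_lit 4060) = true := by decide +kernel
theorem cuth_m_4_0 : allZ (matEnt (wdsP H15.Ru.P cuth_W) cuth_P (nat_lit 4)) (nat_lit 0) (nat_lit 4060) = true := by decide +kernel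
theorem cuth_m_5_0 : allZ (matEnt (wdsP H15.Ru.P cuth_W) cuth_P (nat_lit 5)) (nat_lit 0) (nat_lit 4060) = true := by decide +kernel
theorem cuth_m_6_0 : allZ (matEnt (wdsP H15.Ru.P cuth_W) cuth_P (nat_lit 6)) (nat_lit 0) (nat_lit 4060) = true := by decide +kernel
theorem cuth_m_7_0 : allZ (matEnt (wdsP H15.Ru.P cuth_W) cuth_P (nat_lit 7)) (nat_lit 0) (nat_lit 4060) = true := by decide +kernel
theorem cuth_m_8_0 : allZ (matEnt (wdsP H15.Ru.P cuth_W) cuth_P (nat_lit 8)) (nat_lit 0) (nat_lit 4060) = true := by decide +kernel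
theorem cuth_m_9_0 : allZ (matEnt (wdsP H15.Ru.P cuth_W) cuth_P (nat_lit 9)) (nat_lit 0) (nat_lit 4060) = true := by decide +kernel
theorem cuth_m_10_0 : allZ (matEnt (wdsP H15.Ru.P cuth_W) cuth_P (nat_lit 10)) (nat_lit 0) (nat_lit 4060) = true := by decide +kernel
theorem cuth_m_11_0 : allZ (matEnt (wdsP H15.Ru.P cuth_W) cuth_P (nat_lit 11)) (nat_lit 0) (nat_lit 4060) = true := by decide +kernel
theorem cuth_m_12_0 : allZ (matEnt (wdsP H15.Ru.P cuth_W) cuth_P (nat_lit 12)) (nat_lit 0) (nat_lit 4060) = true := by decide +kernel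
theorem cuth_m_13_0 : allZ (matEnt (wdsP H15.Ru.P cuth_W) cuth_P (nat_lit 13)) (nat_lit 0) (nat_lit 4060) = true := by decide +kernel
theorem cuth_m_14_0 : allZ (matEnt (wdsP H15.Ru.P cuth_W) cuth_P (nat_lit 14)) (nat_lit 0) (nat_lit 4060) = true := by decide +kernel
theorem cuth_m_15_0 : allZ (matEnt (wdsP H15.Ru.P cuth_W) cuth_P (nat_lit 15)) (nat_lit 0) (nat_lit 4060) = true := by decide +kernel
theorem cuth_m_16_0 : allZ (matEnt (wdsP H15.Ru.P cuth_W) cuth_P (nat_lit 16)) (nat_lit 0) (nat_lit 4060) = true := by decide +kernel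
theorem cuth_m_17_0 : allZ (matEnt (wdsP H15.Ru.P cuth_W) cuth_P (nat_lit 17)) (nat_lit 0) (nat_lit 4060) = true := by decide +kernel
theorem cutl0_e_0 : allZ (dent cutl0 cuth_P (nat_lit 4060)) (nat_lit 0) (nat_lit 4059) = true := by decide +kernel
theorem cutl0_h : 0 < cutl0.n ∧ 0 < cutl0.K ∧ cutl0.Pt 0 < 4060 ∧ cutl0.Q (cutl0.Pt 0) = 0 := by decide +kernel
theorem cutl1_e_0 : allZ (dent cutl1 cuth_P (nat_lit 4060)) (nat_lit 0) (nat_lit 1754) = true := by decide +kernel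
theorem cutl1_h : 0 < cutl1.n ∧ 0 < cutl1.K ∧ cutl1.Pt 0 < 4060 ∧ cutl1.Q (cutl1.Pt 0) = 0 := by decide +kernel
theorem cutl2_e_0 : allZ (dent cutl2 cuth_P (nat_lit 4060)) (nat_lit 0) (nat_lit 9) = true := by decide +kernel
theorem cutl2_h : 0 < cutl2.n ∧ 0 < cutl2.K ∧ cutl2.Pt 0 < 4060 ∧ cutl2.Q (cutl2.Pt 0) = 0 := by decide +kernel
theorem cutl3_e_0 : allZ (dent cutl3 cuth_P (nat_lit 4060)) (nat_lit 0) (nat_lit 7) = true := by decide +kernel
theorem cutl3_h : 0 < cutl3.n ∧ 0 < cutl3.K ∧ cutl3.Pt 0 < 4060 ∧ cutl3.Q (cutl3.Pt 0) = 0 := by decide +kernel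
theorem cutl4_e_0 : allZ (dent cutl4 cuth_P (nat_lit 4060)) (nat_lit 0) (nat_lit 7) = true := by decide +kernel
theorem cutl4_h : 0 < cutl4.n ∧ 0 < cutl4.K ∧ cutl4.Pt 0 < 4060 ∧ cutl4.Q (cutl4.Pt 0) = 0 := by decide +kernel
theorem cutl5_e_0 : allZ (dent cutl5 cuth_P (nat_lit 4060)) (nat_lit 0) (nat_lit 15) = true := by decide +kernel
theorem cutl5_h : 0 < cutl5.n ∧ 0 < cutl5.K ∧ cutl5.Pt 0 < 4060 ∧ cutl5.Q (cutl5.Pt 0) = 0 := by decide +kernel
theorem cutl6_e_0 : allZ (dent cutl6 cuth_P (nat_lit 4060)) (nat_lit 0) (nat_lit 1) = true := by decide +kernel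
theorem cutl6_h : 0 < cutl6.n ∧ 0 < cutl6.K ∧ cutl6.Pt 0 < 4060 ∧ cutl6.Q (cutl6.Pt 0) = 0 := by decide +kernel
theorem cut_f6 : (Nat.ble cutl6.K 18 && Nat.ble (topK []) cutl6.K && fixLetters cuth_P (topK []) (cutl6.Pt 0)) = true := by decide +kernel
theorem cut_f5 : (Nat.ble cutl5.K 18 && Nat.ble (topK [cutl6]) cutl5.K && fixLetters cuth_P (topK [cutl6]) (cutl5.Pt 0)) = true := by decide +kernel
theorem cut_f4 : (Nat.ble cutl4.K 18 && Nat.ble (topK [cutl5, cutl6]) cutl4.K && fixLetters cuth_P (topK [cutl5, cutl6]) (cutl4.Pt 0)) = true := by decide +kernel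
theorem cut_f3 : (Nat.ble cutl3.K 18 && Nat.ble (topK [cutl4, cutl5, cutl6]) cutl3.K && fixLetters cuth_P (topK [cutl4, cutl5, cutl6]) (cutl3.Pt 0)) = true := by decide +kernel
theorem cut_f2 : (Nat.ble cutl2.K 18 && Nat.ble (topK [cutl3, cutl4, cutl5, cutl6]) cutl2.K && fixLetters cuth_P (topK [cutl3, cutl4, cutl5, cutl6]) (cutl2.Pt 0)) = true := by decide +kernel
theorem cut_f1 : (Nat.ble cutl1.K 18 && Nat.ble (topK [cutl2, cutl3, cutl4, cutl5, cutl6]) cutl1.K && fixLetters cuth_P (topK [cutl2, cutl3, cutl4, cutl5, cutl6]) (cutl1.Pt 0)) = true := by decide +kernel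
theorem cut_f0 : (Nat.ble cutl0.K 18 && Nat.ble (topK [cutl1, cutl2, cutl3, cutl4, cutl5, cutl6]) cutl0.K && fixLetters cuth_P (topK [cutl1, cutl2, cutl3, cutl4, cutl5, cutl6]) (cutl0.Pt 0)) = true := by decide +kernel
theorem cut_c : chainCard [cutl0, cutl1, cutl2, cutl3, cutl4, cutl5, cutl6] = 145926144000 := by decide +kernel
theorem cue_lt : H16.allL (ltAll 7) cue_W = true := by decide +kernel
theorem cue_m_0_0 : allZ (matEnt (wdsP H15.Ru.P cue_W) cue_P (nat_lit 0)) (nat_lit 0) (nat_lit 3968) = true := by decide +kernel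
theorem cue_m_0_1 : allZ (matEnt (wdsP H15.Ru.P cue_W) cue_P (nat_lit 0)) (nat_lit 3968) (nat_lit 92) = true := by decide +kernel
theorem cu_f6 : (Nat.ble cutl6.K 18 && Nat.blt (nat_lit 74) 4060 && fixLetters cuth_P cutl6.K (nat_lit 74) && Nat.beq (ltAll 14 [nat_lit 11]) 0 && Nat.beq (apW H8.RU.st_P [nat_lit 11] (nat_lit 74)) (cutl6.Pt 0)) = true := by decide +kernel
theorem cu_f5 : (Nat.ble cutl5.K 18 && Nat.blt (nat_lit 74) 4060 && fixLetters cuth_P cutl5.K (nat_lit 74) && Nat.beq (ltAll 14 [nat_lit 2]) 0 && Nat.beq (apW H8.RU.st_P [nat_lit 2] (nat_lit 74)) (cutl5.Pt 0)) = true := by decide +kernel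
theorem cu_f4 : (Nat.ble cutl4.K 18 && Nat.blt (nat_lit 74) 4060 && fixLetters cuth_P cutl4.K (nat_lit 74) && Nat.beq (ltAll 14 [nat_lit 1, nat_lit 5]) 0 && Nat.beq (apW H8.RU.st_P [nat_lit 1, nat_lit 5] (nat_lit 74)) (cutl4.Pt 0)) = true := by decide +kernel
theorem cu_f3 : (Nat.ble cutl3.K 18 && Nat.blt (nat_lit 74) 4060 && fixLetters cuth_P cutl3.K (nat_lit 74) && Nat.beq (ltAll 14 [nat_lit 6, nat_lit 7]) 0 && Nat.beq (apW H8.RU.st_P [nat_lit 6, nat_lit 7] (nat_lit 74)) (cutl3.Pt 0)) = true := by decide +kernel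
theorem cu_f2 : (Nat.ble cutl2.K 18 && Nat.blt (nat_lit 74) 4060 && fixLetters cuth_P cutl2.K (nat_lit 74) && Nat.beq (ltAll 14 [nat_lit 3]) 0 && Nat.beq (apW H8.RU.st_P [nat_lit 3] (nat_lit 74)) (cutl2.Pt 0)) = true := by decide +kernel
theorem cu_f1 : (Nat.ble cutl1.K 18 && Nat.blt (nat_lit 74) 4060 && fixLetters cuth_P cutl1.K (nat_lit 74) && Nat.beq (ltAll 14 [nat_lit 0]) 0 && Nat.beq (apW H8.RU.st_P [nat_lit 0] (nat_lit 74)) (cutl1.Pt 0)) = true := by decide +kernel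
theorem cuc0_e_0 : allZ (dent cuc0 cue_P (nat_lit 4060)) (nat_lit 0) (nat_lit 1) = true := by decide +kernel
theorem cuc0_h : 0 < cuc0.n ∧ 0 < cuc0.K ∧ cuc0.Pt 0 < 4060 ∧ cuc0.Q (cuc0.Pt 0) = 0 := by decide +kernel
theorem cutn0_0 : (Nat.ble cutl0.K 18 && Nat.beq (ltAll 4060 []) 0 && kChk cue_P H8.RU.st_P cutn0.Kn 14 H15.Ru.B [] && H16.allL (ltAll 14) cutn0.pre && planOK cuth_P H8.RU.st_P 14 (cutl0.Pt 0) cutn0.plan [cutl0, cutl1, cutl2, cutl3, cutl4, cutl5, cutl6]) = true := by decide +kernel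
theorem cutn0_1_0 : allZ (cutn0.ent H15.Ru.P cuth_P H8.RU.st_P H8.RU.st_P cue_P (nat_lit 7) (nat_lit 14) H15.Ru.B cutl0 [cutl1, cutl2, cutl3, cutl4, cutl5, cutl6] (memO cuc0)) (nat_lit 0) (nat_lit 4060) = true := by decide +kernel
theorem cu_f0 : (Nat.ble cuc0.K 1 && Nat.ble (topK []) cuc0.K && Nat.beq (cuc0.Pt 0) (cutl0.Pt 0) && Nat.beq (ltAll 4060 []) 0 && kChk cue_P H8.RU.st_P cuc0.K 14 H15.Ru.B []) = true := by decide +kernel
theorem cu_c : chainCard [cuc0] = 2 ∧ topK [cuc0] = 1 := by decide +kernel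
theorem vz_k_0 : allZ (cmEnt H15.QS.YRu.c0v_P H15.IC.Ru.c0ax_P (nat_lit 5) H15.Ru.B (nat_lit 0)) (nat_lit 0) (nat_lit 5) = true := by decide +kernel
theorem vU_k : allZ (fun a => Nat.add (ltAll 14 (nth [] [[nat_lit 1, nat_lit 3],
  [nat_lit 1],
  [nat_lit 0, nat_lit 3],
  [nat_lit 2],
  [nat_lit 2, nat_lit 3, nat_lit 5]] a)) (sumL (fun β => Nat.xor (H15.QS.YRu.c0v_P a β) (apW H8.RU.st_P (nth [] [[nat_lit 1, nat_lit 3],
  [nat_lit 1],
  [nat_lit 0, nat_lit 3],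
  [nat_lit 2],
  [nat_lit 2, nat_lit 3, nat_lit 5]] a) β)) H15.Ru.B)) 0 5 = true := by decide +kernel
theorem dk : ∀ b < 14, ∀ a < 14, 11 ≤ b → b < a → ltAll 11 (nth [] (nth [] H8.RU.sC b) a) = 0 := by decide +kernel
theorem d_lt : H16.allL (ltAll 7) d_W = true := by decide +kernel
theorem d_m_0_0 : allZ (matEnt (wdsP H15.Ru.P d_W) d_P (nat_lit 0)) (nat_lit 0) (nat_lit 4060) = true := by decide +kernel
theorem d_m_1_0 : allZ (matEnt (wdsP H15.Ru.P d_W) d_P (nat_lit 1)) (nat_lit 0) (nat_lit 4060) = true := by decide +kernel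
theorem d_m_2_0 : allZ (matEnt (wdsP H15.Ru.P d_W) d_P (nat_lit 2)) (nat_lit 0) (nat_lit 3968) = true := by decide +kernel
theorem d_m_2_1 : allZ (matEnt (wdsP H15.Ru.P d_W) d_P (nat_lit 2)) (nat_lit 3968) (nat_lit 92) = true := by decide +kernel
theorem dr0_k : eqL H8.RU.st_P 14 H15.Ru.B [nat_lit 11, nat_lit 13] [nat_lit 13, nat_lit 11, nat_lit 4, nat_lit 5, nat_lit 6, nat_lit 9] = 0 := by decide +kernel
theorem de0_k : Nat.add (ltAll 14 [nat_lit 4, nat_lit 5, nat_lit 6, nat_lit 9]) (sumL (fun β => Nat.xor (d_P 0 β) (apW H8.RU.st_P [nat_lit 4, nat_lit 5, nat_lit 6, nat_lit 9] β)) H15.Ru.B) = 0 := by decide +kernel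
theorem dr1_k : eqL H8.RU.st_P 14 H15.Ru.B [nat_lit 11, nat_lit 12] [nat_lit 12, nat_lit 11, nat_lit 0, nat_lit 2, nat_lit 5, nat_lit 10] = 0 := by decide +kernel
theorem de1_k : Nat.add (ltAll 14 [nat_lit 0, nat_lit 2, nat_lit 5, nat_lit 10]) (sumL (fun β => Nat.xor (d_P 1 β) (apW H8.RU.st_P [nat_lit 0, nat_lit 2, nat_lit 5, nat_lit 10] β)) H15.Ru.B) = 0 := by decide +kernel
theorem dr2_k : eqL H8.RU.st_P 14 H15.Ru.B [nat_lit 8, nat_lit 9] [nat_lit 9, nat_lit 8, nat_lit 0, nat_lit 1, nat_lit 4] = 0 := by decide +kernel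
theorem de2_k : Nat.add (ltAll 14 [nat_lit 0, nat_lit 1, nat_lit 4]) (sumL (fun β => Nat.xor (d_P 2 β) (apW H8.RU.st_P [nat_lit 0, nat_lit 1, nat_lit 4] β)) H15.Ru.B) = 0 := by decide +kernel
theorem cdth_lt : H16.allL (ltAll 7) cdth_W = true := by decide +kernel
theorem cdth_m_0_0 : allZ (matEnt (wdsP H15.Ru.P cdth_W) cdth_P (nat_lit 0)) (nat_lit 0) (nat_lit 4060) = true := by decide +kernel
theorem cdth_m_1_0 : allZ (matEnt (wdsP H15.Ru.P cdth_W) cdth_P (nat_lit 1)) (nat_lit 0) (nat_lit 4060) = true := by decide +kernel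
theorem cdth_m_2_0 : allZ (matEnt (wdsP H15.Ru.P cdth_W) cdth_P (nat_lit 2)) (nat_lit 0) (nat_lit 4060) = true := by decide +kernel
theorem cdth_m_3_0 : allZ (matEnt (wdsP H15.Ru.P cdth_W) cdth_P (nat_lit 3)) (nat_lit 0) (nat_lit 4060) = true := by decide +kernel
theorem cdth_m_4_0 : allZ (matEnt (wdsP H15.Ru.P cdth_W) cdth_P (nat_lit 4)) (nat_lit 0) (nat_lit 4060) = true := by decide +kernel
theorem cdth_m_5_0 : allZ (matEnt (wdsP H15.Ru.P cdth_W) cdth_P (nat_lit 5)) (nat_lit 0) (nat_lit 4060) = true := by decide +kernel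
theorem cdth_m_6_0 : allZ (matEnt (wdsP H15.Ru.P cdth_W) cdth_P (nat_lit 6)) (nat_lit 0) (nat_lit 4060) = true := by decide +kernel
theorem cdth_m_7_0 : allZ (matEnt (wdsP H15.Ru.P cdth_W) cdth_P (nat_lit 7)) (nat_lit 0) (nat_lit 4060) = true := by decide +kernel
theorem cdth_m_8_0 : allZ (matEnt (wdsP H15.Ru.P cdth_W) cdth_P (nat_lit 8)) (nat_lit 0) (nat_lit 4060) = true := by decide +kernel
theorem cdth_m_9_0 : allZ (matEnt (wdsP H15.Ru.P cdth_W) cdth_P (nat_lit 9)) (nat_lit 0) (nat_lit 4060) = true := by decide +kernel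
theorem cdth_m_10_0 : allZ (matEnt (wdsP H15.Ru.P cdth_W) cdth_P (nat_lit 10)) (nat_lit 0) (nat_lit 4060) = true := by decide +kernel
theorem cdth_m_11_0 : allZ (matEnt (wdsP H15.Ru.P cdth_W) cdth_P (nat_lit 11)) (nat_lit 0) (nat_lit 4060) = true := by decide +kernel
theorem cdth_m_12_0 : allZ (matEnt (wdsP H15.Ru.P cdth_W) cdth_P (nat_lit 12)) (nat_lit 0) (nat_lit 4060) = true := by decide +kernel
theorem cdth_m_13_0 : allZ (matEnt (wdsP H15.Ru.P cdth_W) cdth_P (nat_lit 13)) (nat_lit 0) (nat_lit 4060) = true := by decide +kernel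
theorem cdth_m_14_0 : allZ (matEnt (wdsP H15.Ru.P cdth_W) cdth_P (nat_lit 14)) (nat_lit 0) (nat_lit 4060) = true := by decide +kernel
theorem cdth_m_15_0 : allZ (matEnt (wdsP H15.Ru.P cdth_W) cdth_P (nat_lit 15)) (nat_lit 0) (nat_lit 4060) = true := by decide +kernel

end H15.UB.Ru
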